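import Groth.Agent.S19128
import Groth.Agent.S14454
import Groth.Agent.EtPurLib.Supp
import Groth.Agent.CdAffineCurveLib.Main
import Groth.Agent.CdPrimeLib.Push
import Groth.Prelude.Def_EtDual

/-!
# Cohomology with support in a point of a curve
-/

set_option autoImplicit false
set_option linter.style.haveILetI false
set_option linter.unusedSectionVars false
set_option backward.isDefEq.respectTransparency false
set_option backward.isDefEq.respectTransparency.types false
set_option synthInstance.maxHeartbeats 400000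
set_option maxHeartbeats 1000000

universe u

open CategoryTheory CategoryTheory.Limits CategoryTheory.Abelian AlgebraicGeometry Opposite
open Groth.Agent Groth.Agent.EtShLib EtSliceLib EtLocCohLib

noncomputable section

namespace CurveHYLib

variable {X U : Scheme.{u}} (j : U ⟶ X) [IsOpenImmersion j] [EtCoh.BCCont j]

theorem isZero_secSupp_push (K : EtCoh.Ab U) : IsZero ((EtDual.secSupp j).obj ((EtCoh.push j).obj K)) := by
  haveI : Mono ((EtCoh.pullPushAdj j).unit.app ((EtCoh.push j).obj K) ≫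
      (EtCoh.push j).map ((EtCoh.pullPushAdj j).counit.app K)) := by
    rw [(EtCoh.pullPushAdj j).right_triangle_components K]
    exact ⟨fun a b h => (Category.comp_id a).symm.trans (h.trans (Category.comp_id b))⟩
  haveI : Mono (EtDual.unitApp j ((EtCoh.push j).obj K)) :=
    mono_of_mono _ ((EtCoh.push j).map ((EtCoh.pullPushAdj j).counit.app K))
  exact isZero_kernel_of_mono _

theorem isZero_secSupp_extZero [EtShriek.JCont j] (F : EtCoh.Ab U) :
    IsZero ((EtDual.secSupp j).obj ((EtShriek.extZero j).obj F)) := by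
  let G := (EtShriek.extZero j).obj F
  let ι : kernel (EtDual.unitApp j G) ⟶ G := kernel.ι (EtDual.unitApp j G)
  have h0 : ι = 0 := by
    refine Sheaf.hom_ext (NatTrans.ext (funext fun W => ?_))
    ext s
    refine eq_of_germ (A := AddCommGrpCat.{u + 1}) G (U := W.unop) _ _ fun Ω _ _ ξ u => ?_
    have hz : (stk (A := AddCommGrpCat.{u + 1}) ξ).map ι = 0 := by
      by_cases hξ : ξ.base default ∈ Set.range j.base
      · have hsub : Set.range ξ.base ⊆ Set.range j.base := by
          rintro _ ⟨z, rfl⟩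
          rw [Subsingleton.elim z default]
          exact hξ
        obtain ⟨ζ, rfl⟩ : ∃ ζ, ξ = ζ ≫ j := ⟨IsOpenImmersion.lift j ξ hsub, (IsOpenImmersion.lift_fac _ _ _).symm⟩
        haveI : IsIso ((EtCoh.pull j).map ((EtCoh.pullPushAdj j).unit.app G)) := by
          haveI : IsIso ((EtCoh.pullPushAdj j).counit.app ((EtCoh.pull j).obj G)) :=
            counit_isIso_of_openImmersion j _
          haveI : IsIso ((EtCoh.pull j).map ((EtCoh.pullPushAdj j).unit.app G) ≫
              (EtCoh.pullPushAdj j).counit.app ((EtCoh.pull j).obj G)) :=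
            (EtCoh.pullPushAdj j).left_triangle_components G ▸ IsIso.id _
          exact IsIso.of_isIso_comp_right _ ((EtCoh.pullPushAdj j).counit.app ((EtCoh.pull j).obj G))
        haveI : IsIso ((EtCoh.pull j ⋙ stk (A := AddCommGrpCat.{u + 1}) ζ).map ((EtCoh.pullPushAdj j).unit.app G)) :=
          Functor.map_isIso (stk (A := AddCommGrpCat.{u + 1}) ζ) ((EtCoh.pull j).map ((EtCoh.pullPushAdj j).unit.app G))
        haveI : IsIso ((stk (A := AddCommGrpCat.{u + 1}) (ζ ≫ j)).map (EtDual.unitApp j G)) :=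
          (NatIso.isIso_map_iff (stalkPull (A := AddCommGrpCat.{u + 1}) j ζ) ((EtCoh.pullPushAdj j).unit.app G)).2 ‹_›
        rw [← cancel_mono ((stk (A := AddCommGrpCat.{u + 1}) (ζ ≫ j)).map (EtDual.unitApp j G)), ← Functor.map_comp,
          kernel.condition, Functor.map_zero, zero_comp]
      · exact (isZero_stalk_extZero j F ξ hξ).eq_of_tgt _ _
    rw [← germ_natural_apply, hz]
    exact (map_zero (germ ξ G W.unop u).hom).symm
  exact (IsZero.iff_id_eq_zero _).2 ((cancel_mono ι).1 (by rw [Category.id_comp, zero_comp, h0]))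

theorem isZero_HY_zero {G : EtCoh.Ab X} (h : IsZero ((EtDual.secSupp j).obj G)) :
    IsZero ((EtDual.HY j 0).obj G) :=
  S19128.isZero_HY_of_ext j G 0 (subsingleton_of_forall_eq 0 fun y => by
    obtain ⟨a, rfl⟩ := (Ext.mk₀_bijective _ _).2 y
    rw [subsingleton_hom_qU j h _ a, Ext.mk₀_zero])

theorem isZero_HY_one_push (F : EtCoh.Ab U) : IsZero ((EtDual.HY j 1).obj ((EtCoh.push j).obj F)) := by
  refine S19128.isZero_HY_of_ext j _ 1 (subsingleton_of_forall_eq 0 fun y => ?_)
  haveI : PreservesLimitsOfSize.{0, 0} (EtCoh.push j) := (EtCoh.pullPushAdj j).rightAdjoint_preservesLimits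
  haveI : PreservesFiniteLimits (EtCoh.push j) := PreservesLimitsOfSize.preservesFiniteLimits _
  haveI : (EtCoh.push j).Additive := (EtCoh.pullPushAdj j).right_adjoint_additive
  haveI : (EtCoh.push j).PreservesInjectiveObjects :=
    haveI : (EtCoh.pull j).PreservesMonomorphisms :=
      haveI := EtSliceLib.pullExact j
      inferInstance
    Functor.preservesInjectiveObjects_of_adjunction_of_preservesMonomorphisms (EtCoh.pullPushAdj j)
  let S0 : ShortComplex (EtCoh.Ab U) := ShortComplex.mk (Injective.ι F) (cokernel.π (Injective.ι F))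
    (cokernel.condition _)
  have hS0 : S0.Exact := ShortComplex.exact_of_g_is_cokernel _ (cokernelIsCokernel _)
  haveI : Mono S0.f := inferInstanceAs (Mono (Injective.ι F))
  let P := S0.map (EtCoh.push j)
  have hP : P.Exact := hS0.map_of_mono_of_preservesKernel (EtCoh.push j) inferInstance inferInstance
  haveI : Mono P.f := inferInstanceAs (Mono ((EtCoh.push j).map S0.f))
  haveI : Mono (cokernel.desc P.f P.g P.zero) := (ShortComplex.exact_iff_mono_cokernel_desc P).1 hP
  let T : ShortComplex (EtCoh.Ab X) := ShortComplex.mk P.f (cokernel.π P.f) (cokernel.condition _)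
  have hT : T.ShortExact := { exact := ShortComplex.exact_of_g_is_cokernel _ (cokernelIsCokernel _) }
  haveI : Injective T.X₂ := (EtCoh.push j).injective_obj (Injective.under F)
  obtain ⟨b, hb⟩ := Ext.covariant_sequence_exact₁ _ hT y (Ext.eq_zero_of_injective _) (n₀ := 0) rfl
  obtain ⟨a, rfl⟩ := (Ext.mk₀_bijective _ _).2 b
  have ha : a ≫ cokernel.desc P.f P.g P.zero = 0 :=
    subsingleton_hom_qU j (isZero_secSupp_push j (cokernel (Injective.ι F))) _ _
  rw [(cancel_mono (cokernel.desc P.f P.g P.zero)).1 (ha.trans zero_comp.symm), Ext.mk₀_zero, Ext.zero_comp] at hb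
  exact hb.symm

variable (k : Type u) [Field k] [IsAlgClosed k] (f : X ⟶ Spec (CommRingCat.of k)) [LocallyOfFiniteType f]

include f in
/-- On an affine curve with affine complement of the support, nothing above degree two. -/
theorem isZero_HY_affine [IsAffine X] [IsAffine U] (hdim : topologicalKrullDim X ≤ 1) {n : ℕ} (hn : 0 < n)
    (G : EtCoh.Ab X) (hG : n • 𝟙 G = 0) (i : ℕ) (hi : 3 ≤ i) : IsZero ((EtDual.HY j i).obj G) := by
  have van : ∀ (W : X.Etale), IsAffine W.left → IsOpenImmersion W.hom → ∀ p : ℕ, 2 ≤ p →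
      Subsingleton (Ext.{u + 1} (free W) G p) := by
    intro W _ _ p hp
    haveI : IsOpenImmersion W.hom := ‹_›
    haveI : IsAffine ((𝟭 Scheme).obj W.left) := ‹_›
    haveI : (EtCoh.pull W.hom).Additive := (EtCoh.pullPushAdj W.hom).left_adjoint_additive
    have hd : topologicalKrullDim W.left ≤ 1 :=
      (Topology.IsInducing.topologicalKrullDim_le W.hom.isOpenEmbedding.isInducing).trans hdim
    have h0 : n • 𝟙 ((EtCoh.pull W.hom).obj G) = 0 := CdPrimeLib.nsmul_id_map (EtCoh.pull W.hom) hG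
    haveI : LocallyOfFiniteType (W.hom ≫ f) := inferInstance
    haveI : Subsingleton (EtCoh.H W.left ((EtCoh.pull W.hom).obj G) p) := CdAffineCurveLib.cohDimLE_one k (W.hom ≫ f) hd ((EtCoh.pull W.hom).obj G)
      (CdOneLib.isTorsion_of_nsmul_id n hn h0) p (by omega)
    exact (psi_bijective W p G).1.subsingleton
  refine S19128.isZero_HY_of_ext j G i (subsingleton_of_forall_eq 0 fun y => ?_)
  obtain ⟨m, rfl⟩ : ∃ m, i = m + 1 := ⟨i - 1, by omega⟩
  let T := EtCoh.top X
  let W := (EtShriek.compEtale j).obj ((EtCoh.bc j).obj T)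
  haveI : IsIso T.hom := inferInstanceAs (IsIso (𝟙 X))
  haveI : IsOpenImmersion T.hom := inferInstanceAs (IsOpenImmersion (𝟙 X))
  haveI : IsAffine T.left := inferInstanceAs (IsAffine X)
  haveI : IsAffine W.left := IsAffine.of_isIso (pullback.snd T.hom j)
  haveI : IsOpenImmersion W.hom := inferInstanceAs (IsOpenImmersion (pullback.snd T.hom j ≫ j))
  obtain ⟨c, hc⟩ := Ext.contravariant_sequence_exact₃ (relSeq_shortExact j T) G y
    ((van T inferInstance inferInstance (m + 1) (by omega)).elim _ _) (n₀ := m) (by omega)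
  rw [← hc, (van W inferInstance inferInstance m (by omega)).elim c 0, Ext.comp_zero]

include f in
/-- An affine neighbourhood with affine punctured part. -/
theorem exists_nhd [IsIntegral X] (hdim : topologicalKrullDim X = 1) (z : X) (hz : IsClosed ({z} : Set X)) :
    ∃ V : X.Opens, z ∈ V ∧ IsAffineOpen V ∧ ∀ W : X.Opens, (W : Set X) = {z}ᶜ → IsAffineOpen (V ⊓ W) := by
  obtain ⟨V₀, hV₀, hzV, -⟩ := exists_isAffineOpen_mem_and_subset (x := z) (U := (⊤ : X.Opens)) trivial
  haveI : IsLocallyNoetherian X := LocallyOfFiniteType.isLocallyNoetherian f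
  haveI : Nonempty V₀ := ⟨⟨z, hzV⟩⟩
  let A := Γ(X, V₀)
  haveI : IsNoetherianRing A := IsLocallyNoetherian.component_noetherian ⟨V₀, hV₀⟩
  let m := hV₀.primeIdealOf ⟨z, hzV⟩
  haveI hm : m.asIdeal.IsMaximal := hV₀.primeIdealOf_isMaximal_of_isClosed _ hz
  have hfz : hV₀.fromSpec m = z := hV₀.fromSpec_primeIdealOf _
  haveI hA : Ring.KrullDimLE 1 A := by
    rw [Ring.krullDimLE_iff, ← PrimeSpectrum.topologicalKrullDim_eq_ringKrullDim]
    exact (Topology.IsInducing.topologicalKrullDim_le hV₀.fromSpec.isOpenEmbedding.isInducing).trans hdim.le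
  have hm0 : m.asIdeal ≠ ⊥ := by
    intro h0
    have hgV : genericPoint X ∈ V₀ := (genericPoint_specializes z).mem_open V₀.2 hzV
    have hgen : genericPoint X = z := by
      have h1 := hV₀.fromSpec_primeIdealOf ⟨genericPoint X, hgV⟩
      have h2 : hV₀.primeIdealOf ⟨genericPoint X, hgV⟩ = m := PrimeSpectrum.ext
        (hm.eq_of_le (hV₀.primeIdealOf ⟨genericPoint X, hgV⟩).2.ne_top (h0.le.trans bot_le)).symm
      rw [h2] at h1
      exact h1.symm.trans hfz
    haveI : Subsingleton X := ⟨fun a b => by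
      have ha : ∀ x : X, x = z := fun x => by
        have hx : x ∈ closure ({genericPoint X} : Set X) := (genericPoint_specializes x).mem_closure
        rw [hgen, hz.closure_eq] at hx
        exact hx
      rw [ha a, ha b]⟩
    haveI : Nonempty X := ⟨z⟩
    have h := topologicalKrullDim_zero_of_discreteTopology (X := X)
    rw [hdim] at h
    exact absurd h (by decide)
  obtain ⟨a, ham, ha0⟩ := Submodule.exists_mem_ne_zero_of_ne_bot hm0
  have hmin : ∀ p : PrimeSpectrum A, a ∈ p.asIdeal → p.asIdeal ∈ (Ideal.span {a}).minimalPrimes := by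
    intro p hap
    refine ⟨⟨p.2, (Ideal.span_singleton_le_iff_mem _).2 hap⟩, fun q hq hqp => ?_⟩
    have hq0 : q ≠ ⊥ := fun h => ha0 (by simpa [h] using hq.2 (Ideal.mem_span_singleton_self a))
    exact ((Ring.krullDimLE_one_iff_of_noZeroDivisors.1 hA q hq0 hq.1).eq_of_le p.2.ne_top hqp).ge
  have hfin := Ideal.finite_minimalPrimes_of_isNoetherianRing A (Ideal.span {a})
  let others := hfin.toFinset.erase m.asIdeal
  obtain ⟨g, hg, hgm⟩ : ∃ g, g ∈ others.inf id ∧ g ∉ m.asIdeal := by
    by_contra! hcon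
    obtain ⟨q, hq, hqm⟩ := (Ideal.IsPrime.inf_le' m.2).1 (show others.inf id ≤ m.asIdeal from hcon)
    obtain ⟨hne, hq⟩ := Finset.mem_erase.1 hq
    rw [Set.Finite.mem_toFinset] at hq
    have hqne : q ≠ ⊥ := fun h => ha0 (by simpa [h] using hq.1.2 (Ideal.mem_span_singleton_self a))
    exact hne ((Ring.krullDimLE_one_iff_of_noZeroDivisors.1 hA q hqne hq.1.1).eq_of_le m.2.ne_top hqm)
  have hb : ∀ (b : A) (p : PrimeSpectrum A), hV₀.fromSpec p ∈ X.basicOpen b ↔ b ∉ p.asIdeal := fun b p => by
    show p ∈ hV₀.fromSpec ⁻¹ᵁ X.basicOpen b ↔ _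
    rw [hV₀.fromSpec_preimage_basicOpen]
    rfl
  refine ⟨X.basicOpen g, ?_, hV₀.basicOpen g, fun W hW => ?_⟩
  · rw [← hfz]
    exact (hb g m).2 hgm
  have heq : X.basicOpen g ⊓ W = X.basicOpen (a * g) := by
    apply TopologicalSpace.Opens.ext
    ext x
    rw [X.basicOpen_mul]
    simp only [TopologicalSpace.Opens.coe_inf, Set.mem_inter_iff, hW, Set.mem_compl_iff, Set.mem_singleton_iff]
    constructor
    · rintro ⟨hxg, hxz⟩
      refine ⟨?_, hxg⟩
      have hxV : x ∈ V₀ := X.basicOpen_le g hxg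
      let p := hV₀.primeIdealOf ⟨x, hxV⟩
      have hp : hV₀.fromSpec p = x := hV₀.fromSpec_primeIdealOf _
      rw [← hp] at hxg ⊢
      refine (hb a p).2 fun hap => hxz ?_
      by_contra hne
      have hpo : p.asIdeal ∈ others := Finset.mem_erase.2 ⟨fun hpm => hne (by
        rw [← hp, show p = m from PrimeSpectrum.ext hpm, hfz]), hfin.mem_toFinset.2 (hmin p hap)⟩
      exact (hb g p).1 hxg ((Finset.inf_le (f := id) hpo) hg)
    · rintro ⟨hxa, hxg⟩
      refine ⟨hxg, fun hxz => ?_⟩
      rw [hxz, ← hfz] at hxa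
      exact (hb a m).1 hxa ham
  rw [heq]
  exact hV₀.basicOpen (a * g)

include f in
theorem isZero_HY_high [IsIntegral X] (hdim : topologicalKrullDim X = 1) (z : X) (hz : IsClosed ({z} : Set X))
    (hU : Set.range j.base = {z}ᶜ) {n : ℕ} (hn : 0 < n) (G : EtCoh.Ab X) (hG : n • 𝟙 G = 0) (i : ℕ) (hi : 3 ≤ i) :
    IsZero ((EtDual.HY j i).obj G) := by
  obtain ⟨V, hzV, hVa, hVW⟩ := exists_nhd k f hdim z hz
  haveI : IsAffine (V : Scheme.{u}) := hVa
  let O : (V : Scheme.{u}).Opens := V.ι ⁻¹ᵁ j.opensRange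
  haveI : IsAffine (O : Scheme.{u}) := by
    show IsAffineOpen O
    rw [← V.ι.isAffineOpen_iff_of_isOpenImmersion]
    show IsAffineOpen (V.ι ''ᵁ (V.ι ⁻¹ᵁ j.opensRange))
    rw [Scheme.Hom.image_preimage_eq_opensRange_inf, Scheme.Opens.opensRange_ι]
    exact hVW _ hU
  have hrO : Set.range O.ι.base = V.ι.base ⁻¹' Set.range j.base := by rw [Scheme.Opens.range_ι]; rfl
  have hbij : Set.BijOn V.ι.base (Set.range O.ι.base)ᶜ (Set.range j.base)ᶜ := by
    refine ⟨fun x hx => ?_, V.ι.isOpenEmbedding.injective.injOn, fun y hy => ?_⟩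
    · rw [hrO] at hx
      exact hx
    · have hyz : y = z := by simpa [hU] using hy
      refine ⟨⟨z, hzV⟩, ?_, hyz.symm⟩
      rw [hrO]
      exact fun h => by simp [hU] at h
  obtain ⟨e⟩ := S14454.result V.ι j O.ι hrO hbij (fun x _ => (ConcreteCategory.bijective_of_isIso (V.ι.residueFieldMap x)).2)
    G i
  haveI : (EtCoh.pull V.ι).Additive := (EtCoh.pullPushAdj V.ι).left_adjoint_additive
  refine IsZero.of_iso (isZero_HY_affine O.ι k (V.ι ≫ f) ?_ hn _ (CdPrimeLib.nsmul_id_map (EtCoh.pull V.ι) hG) i hi) e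
  exact (Topology.IsInducing.topologicalKrullDim_le V.ι.isOpenEmbedding.isInducing).trans hdim.le

end CurveHYLib
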